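import Groth.Agent.DivX.MeroMod
import Groth.Agent.Lib.CurveTensor
import Groth.Agent.Lib.InvEnd
import Groth.Agent.CurveReg.Vanish

/-!
# Effective divisors on curves: the quotient of `O(E)` by `O`, and sections under twisting
-/

set_option autoImplicit false
set_option linter.style.haveILetI false
set_option linter.unusedSectionVars false
set_option backward.isDefEq.respectTransparency false
set_option backward.isDefEq.respectTransparency.types false
set_option maxHeartbeats 1000000

universe u

open CategoryTheory CategoryTheory.Limits AlgebraicGeometry TopologicalSpace Opposite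
open Groth.Agent.PnCoh.Finite (mapLin)

noncomputable section

namespace Groth.Agent.CurveDiv

open Groth.Agent.DivX

variable {X : Scheme.{u}}

/-- At a point without proper generisation regular germs are units. -/
theorem isUnit_of_regular {x : X} (h : closure ({x} : Set X) ∈ irreducibleComponents (X : Type u))
    {a : X.presheaf.stalk x} (ha : a ∈ nonZeroDivisors (X.presheaf.stalk x)) : IsUnit a := by
  have key : ∀ p, X.fromSpecStalk x p = x := fun p => by
    have h1 : X.fromSpecStalk x p ⤳ x := by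
      have := Set.mem_range_self (f := X.fromSpecStalk x) p
      rwa [Scheme.range_fromSpecStalk] at this
    have h2 : closure ({x} : Set X) ⊆ closure {X.fromSpecStalk x p} :=
      isClosed_closure.closure_subset_iff.2 (Set.singleton_subset_iff.2 h1.mem_closure)
    exact (inseparable_iff_closure_eq.2 (h.eq_of_ge isIrreducible_singleton.closure h2)).eq
  haveI : Subsingleton (PrimeSpectrum (X.presheaf.stalk x)) :=
    ⟨fun p q => (X.fromSpecStalk x).isEmbedding.injective ((key p).trans (key q).symm)⟩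
  by_contra hu
  have hnil : IsNilpotent a := by
    rw [nilpotent_iff_mem_prime]
    intro J hJ
    rw [show J = IsLocalRing.maximalIdeal (X.presheaf.stalk x) from congrArg PrimeSpectrum.asIdeal
      (Subsingleton.elim (⟨J, hJ⟩ : PrimeSpectrum (X.presheaf.stalk x)) (IsLocalRing.closedPoint _))]
    exact hu
  obtain ⟨m, hm⟩ := hnil
  exact zero_notMem_nonZeroDivisors (hm ▸ pow_mem ha m)

theorem regStalk_le {x : X} {a : X.presheaf.stalk x} (ha : a ∈ Mero.regStalk X x) :
    a ∈ nonZeroDivisors (X.presheaf.stalk x) := by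
  obtain ⟨U, hx, f, hf, rfl⟩ := ha
  exact hf ⟨x, hx⟩

theorem eq_one_of_component {E : Mero.Divisor X} (hE : Mero.IsEffective E) {x : X}
    (h : closure ({x} : Set X) ∈ irreducibleComponents (X : Type u)) : E.1 x = 1 := by
  obtain ⟨a, ha⟩ := hE x
  rw [ha, QuotientGroup.eq_one_iff]
  refine ⟨(isUnit_of_regular h (regStalk_le a.2)).unit, Units.ext ?_⟩
  simp

theorem isClosed_of_mem_supp (hdim : topologicalKrullDim X ≤ 1) {E : Mero.Divisor X} (hE : Mero.IsEffective E)
    {x : X} (hx : x ∈ Mero.supp E) : IsClosed ({x} : Set X) :=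
  (CurveReg.isClosed_or_generic hdim x).resolve_right fun h => hx (eq_one_of_component hE h)

theorem divCond_one {E : Mero.Divisor X} (hE : Mero.IsEffective E) (x : X) : Mero.DivCond E x 1 := by
  obtain ⟨a, ha⟩ := hE x
  exact divCond_of_rep ha ⟨a.1, by simp⟩

/-- The section one of `O(E)`. -/
def oneOf {E : Mero.Divisor X} (hE : Mero.IsEffective E) : Γ(Mero.divMod E, ⊤) :=
  mkDiv E 1 fun y => divCond_one hE y.1

/-- The inclusion `O ⟶ O(E)`. -/
def incl {E : Mero.Divisor X} (hE : Mero.IsEffective E) : Coh.structureModule X ⟶ Mero.divMod E :=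
  QCoh.homOfTop (oneOf hE)

theorem incl_val {E : Mero.Divisor X} (hE : Mero.IsEffective E) {U : X.Opens} (r : Γ(X, U)) :
    (Mero.divModι E).app U ((incl hE).app U r) = Mero.toK X U r := by
  refine Subtype.ext (funext fun y => ?_)
  rw [incl, QCoh.homOfTop_app]
  refine ((Mero.modOf_smul_apply (P := Mero.divLoc X E) r _ y).trans (Algebra.smul_def _ _)).trans ?_
  rw [toK_val]
  exact mul_one _

theorem incl_injective {E : Mero.Divisor X} (hE : Mero.IsEffective E) (U : X.Opens) :
    Function.Injective ((incl hE).app U) := fun r r' h =>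
  toK_injective U (by rw [← incl_val hE, ← incl_val hE, h])

instance mono_incl {E : Mero.Divisor X} (hE : Mero.IsEffective E) : Mono (incl hE) :=
  QCoh.mono_of_app_injective _ (incl_injective hE)

/-- A meromorphic function which is integral at a point is a function near the point. -/
theorem exists_toK_nhd {V : X.Opens} (t : Γ(Mero.kmod X, V)) {x : X} (hx : x ∈ V)
    (h : t.1 ⟨x, hx⟩ ∈ (algebraMap (X.presheaf.stalk x) (Mero.KStalk X x)).range) :
    ∃ (W : X.Opens) (hW : W ≤ V) (_ : x ∈ W) (r : Γ(X, W)), Mero.toK X W r = kRes hW t := by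
  obtain ⟨W, hxW, i, a, b, hab⟩ := t.2 ⟨x, hx⟩
  obtain ⟨c, hc⟩ := h
  have spec : ∀ z : W, t.1 ⟨z.1, i.le z.2⟩ *
      algebraMap _ (Mero.KStalk X z.1) (X.presheaf.germ W z.1 z.2 b.1) =
        algebraMap _ (Mero.KStalk X z.1) (X.presheaf.germ W z.1 z.2 a) := fun z => by
    have h2 := IsLocalization.mk'_spec (Mero.KStalk X z.1) (X.presheaf.germ W z.1 z.2 a) (Mero.regGerm z b)
    rw [← Localization.mk_eq_mk'] at h2
    refine Eq.trans ?_ h2
    exact congrArg (· * _) (hab z)
  obtain ⟨W₁, hx₁, c', hc'⟩ := TopCat.Presheaf.exists_germ_eq X.presheaf c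
  have e : X.presheaf.germ (W₁ ⊓ W) x ⟨hx₁, hxW⟩ (X.presheaf.map (homOfLE inf_le_left).op c' *
        X.presheaf.map (homOfLE inf_le_right).op b.1) =
      X.presheaf.germ (W₁ ⊓ W) x ⟨hx₁, hxW⟩ (X.presheaf.map (homOfLE inf_le_right).op a) := by
    rw [map_mul, TopCat.Presheaf.germ_res_apply, TopCat.Presheaf.germ_res_apply,
      TopCat.Presheaf.germ_res_apply, hc']
    apply Mero.algebraMap_KStalk_injective x
    rw [map_mul, hc]
    exact spec ⟨x, hxW⟩
  obtain ⟨W', hxW', j, j', hW'⟩ :=
    TopCat.Presheaf.germ_eq (U := W₁ ⊓ W) (V := W₁ ⊓ W) X.presheaf x ⟨hx₁, hxW⟩ ⟨hx₁, hxW⟩ _ _ e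
  refine ⟨W', fun z hz => i.le (j.le hz).2, hxW', X.presheaf.map (homOfLE (j.le.trans inf_le_left)).op c',
    Subtype.ext (funext fun z => ?_)⟩
  rw [toK_val, TopCat.Presheaf.germ_res_apply, kRes_apply]
  have h1 := congrArg (X.presheaf.germ W' z.1 z.2) hW'
  simp only [TopCat.Presheaf.germ_res_apply, map_mul] at h1
  have hb : IsUnit (algebraMap _ (Mero.KStalk X z.1) (X.presheaf.germ W z.1 (j.le z.2).2 b.1)) :=
    IsLocalization.map_units (Mero.KStalk X z.1) (Mero.regGerm ⟨z.1, (j.le z.2).2⟩ b)
  refine hb.mul_left_inj.1 ((map_mul _ _ _).symm.trans ?_)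
  rw [h1]
  exact (spec ⟨z.1, (j.le z.2).2⟩).symm

/-- The quotient `O(E) / O` vanishes off the support of `E`. -/
theorem support_cokernel_subset {E : Mero.Divisor X} (hE : Mero.IsEffective E) :
    CohB1.support (cokernel (incl hE)) ⊆ Mero.supp E := fun x hx => by
  by_contra hxE
  refine hx ?_
  haveI : Epi ((DerSch.stalkFunctor X x).map (incl hE)) := by
    refine (ModuleCat.epi_iff_surjective _).2 fun q => ?_
    obtain ⟨V, hxV, s, rfl⟩ := TopCat.Presheaf.exists_germ_eq (Mero.divMod E).presheaf q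
    have h1 : E.1 x = QuotientGroup.mk 1 := not_not.1 hxE
    have h2 := s.2.2 ⟨x, hxV⟩ 1 h1
    rw [Units.val_one, mul_one] at h2
    obtain ⟨W, hW, hxW, r, hr⟩ := exists_toK_nhd ((Mero.divModι E).app V s) hxV h2
    refine ⟨(Coh.structureModule X).presheaf.germ W x hxW r, ?_⟩
    rw [← (Mero.divMod E).presheaf.germ_res_apply (homOfLE hW) x hxW s]
    refine (TopCat.Presheaf.stalkFunctor_map_germ_apply W x hxW
      ((Scheme.Modules.toPresheaf X).map (incl hE)) r).trans ?_
    refine congrArg ((Mero.divMod E).presheaf.germ W x hxW) ?_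
    exact divι_injective E _ ((incl_val hE r).trans hr)
  exact ModuleCat.subsingleton_of_isZero ((isZero_cokernel_of_epi
    ((DerSch.stalkFunctor X x).map (incl hE))).of_iso
      (PreservesCokernel.iso (DerSch.stalkFunctor X x) (incl hE)))

variable (k : Type u) [Field k] [X.Over (Spec (CommRingCat.of k))] [IsProper (X ↘ Spec (CommRingCat.of k))]

theorem finrank_congr {M N : X.Modules} (e : M ≅ N) (i : ℕ) :
    Module.finrank k (Coh.HH X M i) = Module.finrank k (Coh.HH X N i) := by
  refine LinearEquiv.finrank_eq (LinearEquiv.ofBijective (mapLin k e.hom i) ?_)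
  have h : ∀ {P Q : X.Modules} (e : P ≅ Q) (y : Coh.HH X Q i),
      mapLin k e.hom i (mapLin k e.inv i y) = y := fun e y =>
    (Groth.Agent.PnCoh.Finite.map_map (Y := X.toPresheafedSpace.carrier)
      (((QCoh.toAbFunctor X).map_comp e.inv e.hom).symm.trans
        (by rw [e.inv_hom_id, CategoryTheory.Functor.map_id]; rfl)) i y).trans (Sheaf.H.map_id_apply y)
  exact Function.bijective_iff_has_inverse.mpr ⟨mapLin k e.inv i, fun x => h e.symm x, h e⟩

include k in
/-- The sections along a short exact sequence of coherent modules. -/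
theorem finrank_h0_bounds {S : ShortComplex X.Modules} (hS : S.ShortExact) (h₂ : Coh.IsCoh S.X₂)
    (h₃ : Coh.IsCoh S.X₃) :
    Module.finrank k (Coh.HH X S.X₁ 0) ≤ Module.finrank k (Coh.HH X S.X₂ 0) ∧
      Module.finrank k (Coh.HH X S.X₂ 0) ≤
        Module.finrank k (Coh.HH X S.X₁ 0) + Module.finrank k (Coh.HH X S.X₃ 0) := by
  haveI := CurveCohLib.finite_HH (k := k) h₂ 0
  haveI := CurveCohLib.finite_HH (k := k) h₃ 0
  have hsum := LinearMap.finrank_range_add_finrank_ker (mapLin k S.g 0)
  rw [CurveCohLib.ker_mapLin_g k hS 0,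
    LinearMap.finrank_range_of_inj (CurveCohLib.mapLin_f_zero_injective k hS)] at hsum
  have hle := Submodule.finrank_le (LinearMap.range (mapLin k S.g 0))
  exact ⟨by omega, by omega⟩

/-- Twisting by an effective divisor adds at most its degree to the sections. -/
theorem h0_le_of_divLE (hdim : topologicalKrullDim X ≤ 1) (D D' : Mero.Divisor X) (hle : Mero.DivLE D' D) :
    Module.finrank k (Coh.HH X (Mero.divMod D') 0) ≤ Module.finrank k (Coh.HH X (Mero.divMod D) 0) ∧
      (Module.finrank k (Coh.HH X (Mero.divMod D) 0) : ℤ) ≤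
        (Module.finrank k (Coh.HH X (Mero.divMod D') 0) : ℤ) + Curv2.deg k X (Mero.divMod (D * D'⁻¹)) 1 := by
  haveI := CurveCohLib.isNoetherian_of_proper (k := k) (X := X)
  let E := D * D'⁻¹
  have hE : Mero.IsEffective E := hle
  let ι := incl hE
  let Q := cokernel ι
  have hO : Coh.IsCoh (Coh.structureModule X) := QCoh.isCoh_structureModule'
  have hEc : Coh.IsCoh (Mero.divMod E) := CurveDeg.isCoh_of_isInvertible (isInvertible_divMod E)
  have hQ : Coh.IsCoh Q := QCoh.isCoh_cokernel hO.1 hEc ι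
  have hS : (ShortComplex.mk ι (cokernel.π ι) (cokernel.condition ι)).ShortExact :=
    { exact := ShortComplex.exact_of_g_is_cokernel _ (cokernelIsCokernel ι), mono_f := mono_incl hE }
  have h0 : ∀ x ∈ CohB1.support Q, IsClosed ({x} : Set X) := fun x hx =>
    isClosed_of_mem_supp hdim hE (support_cokernel_subset hE hx)
  have hdegQ : Curv2.deg k X (Mero.divMod E) 1 = Curv2.euler k X Q := by
    have h := CurveCohLib.euler_additive (k := k) hS hO hEc hQ
    simp only at h
    unfold Curv2.deg
    push_cast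
    linarith
  let L := Mero.divMod D'
  have hL1 := InvEnd.isFinLocFreeOfRank_one (isInvertible_divMod D')
  have hLf : FlatMod.IsFinLocFree L := fun y => let ⟨W, hy, he⟩ := hL1 y; ⟨W, 1, hy, he⟩
  have hLc : Coh.IsCoh L := CurveDeg.isCoh_of_isInvertible (isInvertible_divMod D')
  let T := DCoh.tensorBi.obj L
  have hT := CurveTensor.shortExact_tensor hLf ι (cokernel.π ι) (cokernel.condition ι) hS
  have e₁ : T.obj (Coh.structureModule X) ≅ L := KFlatLib.tensorUnitIso L
  have hmul : IsIso (mulMap D' E) := isIso_mulMap D' E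
  have hDE : D' * E = D := by
    show D' * (D * D'⁻¹) = D
    rw [mul_comm D, mul_inv_cancel_left]
  let e₂ : T.obj (Mero.divMod E) ≅ Mero.divMod D := (asIso (mulMap D' E)) ≪≫ eqToIso (congrArg Mero.divMod hDE)
  have hM₂ : Coh.IsCoh (T.obj (Mero.divMod E)) := CurveTensor.isCoh_tensor hLf hEc
  have hM₃ : Coh.IsCoh (T.obj Q) := CurveTensor.isCoh_tensor hLf hQ
  have h0' : ∀ x ∈ CohB1.support (T.obj Q), IsClosed ({x} : Set X) :=
    fun x hx => h0 x (CurveTensor.support_tensor_subset hx)
  have hrk : (Module.finrank k (Coh.HH X (T.obj Q) 0) : ℤ) = Curv2.deg k X (Mero.divMod E) 1 := by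
    rw [← CurveCohLib.euler_eq_finrank_zero (k := k) hM₃ h0', CurveTensor.euler_tensor_torsion k hL1 hQ h0,
      hdegQ, Nat.cast_one, one_mul]
  obtain ⟨h1, h2⟩ := finrank_h0_bounds k hT hM₂ hM₃
  have r₁ : Module.finrank k (Coh.HH X (T.obj (Coh.structureModule X)) 0) = Module.finrank k (Coh.HH X L 0) :=
    finrank_congr k e₁ 0
  have r₂ : Module.finrank k (Coh.HH X (T.obj (Mero.divMod E)) 0) =
      Module.finrank k (Coh.HH X (Mero.divMod D) 0) := finrank_congr k e₂ 0
  refine ⟨r₁.symm.trans_le (h1.trans r₂.le), ?_⟩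
  rw [← hrk]
  exact_mod_cast r₂.symm.trans_le (h2.trans (Nat.add_le_add_right r₁.le _))

end Groth.Agent.CurveDiv
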