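import Groth.Agent.CurveDiv.Basic
import Groth.Agent.Lib.CurvePoint

/-!
# The quotient by a closed point, and twisting by it
-/

set_option autoImplicit false
set_option linter.style.haveILetI false
set_option linter.unusedSectionVars false
set_option backward.isDefEq.respectTransparency false
set_option backward.isDefEq.respectTransparency.types false
set_option maxHeartbeats 1000000

universe u

open CategoryTheory CategoryTheory.Limits AlgebraicGeometry TopologicalSpace Opposite
open Groth.Agent.PnCoh.Finite (mapLin)

noncomputable section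

attribute [local instance] Curv2.resAlgebra

namespace Groth.Agent.CurveDiv

variable {X : Scheme.{u}}

/-- The ideal of a closed point with its reduced structure. -/
theorem ker_fromSpecResidueField (x : X) (hx : IsClosed ({x} : Set X)) :
    (X.fromSpecResidueField x).ker = CurvePoint.ptIdeal x hx := by
  haveI : IsClosedImmersion (X.fromSpecResidueField x) :=
    IsClosedImmersion.of_isPreimmersion _ (by rw [Scheme.range_fromSpecResidueField]; exact hx)
  have hsupp : (X.fromSpecResidueField x).ker.support = (⟨{x}, hx⟩ : Closeds X) := by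
    refine Closeds.ext ?_
    rw [Scheme.Hom.support_ker]
    show closure (Set.range (X.fromSpecResidueField x)) = {x}
    rw [Scheme.range_fromSpecResidueField]
    exact hx.closure_eq
  have hrad : (X.fromSpecResidueField x).ker.radical = (X.fromSpecResidueField x).ker := by
    refine Scheme.IdealSheafData.ext (funext fun U => ?_)
    show ((X.fromSpecResidueField x).ker.ideal U).radical = _
    refine le_antisymm (fun a ha => ?_) Ideal.le_radical
    obtain ⟨n, hn⟩ := ha
    rw [Scheme.Hom.ker_apply, RingHom.mem_ker, map_pow] at hn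
    rw [Scheme.Hom.ker_apply, RingHom.mem_ker]
    exact IsReduced.eq_zero _ ⟨n, hn⟩
  rw [← hrad, ← Scheme.IdealSheafData.vanishingIdeal_support, hsupp]

variable (k : Type u) [Field k] [X.Over (Spec (CommRingCat.of k))] [IsProper (X ↘ Spec (CommRingCat.of k))]

theorem shortExact_point (x : X) (hx : IsClosed ({x} : Set X)) :
    (ShortComplex.mk (ClSub.idealModι (CurvePoint.ptIdeal x hx)) (ClSub.toSubscheme (CurvePoint.ptIdeal x hx))
      (kernel.condition _)).ShortExact := by
  haveI := CurvePoint.epi_toSubscheme (CurvePoint.ptIdeal x hx)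
  exact CurveSlope.shortExact_kernel_of_epi _

include k in
theorem isCoh_point (x : X) (hx : IsClosed ({x} : Set X)) :
    Coh.IsCoh (ClSub.quotMod (CurvePoint.ptIdeal x hx)) := by
  haveI := CurveCohLib.isNoetherian_of_proper (k := k) (X := X)
  exact ParShLib.isCoh_quotMod _

theorem closed_support_point (x : X) (hx : IsClosed ({x} : Set X)) :
    ∀ y ∈ CohB1.support (ClSub.quotMod (CurvePoint.ptIdeal x hx)), IsClosed ({y} : Set X) :=
  fun _ hy => Set.mem_singleton_iff.1 (CurvePoint.support_quot_subset x hx hy) ▸ hx

include k in
/-- The quotient by a closed point has the residue field as sections. -/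
theorem euler_point (x : X) (hx : IsClosed ({x} : Set X)) :
    Curv2.euler k X (ClSub.quotMod (CurvePoint.ptIdeal x hx)) = (Module.finrank k (X.residueField x) : ℤ) := by
  classical
  haveI := CurveCohLib.isNoetherian_of_proper (k := k) (X := X)
  obtain ⟨h, -⟩ := CurveCohLib.euler_eq_sum_stalks (k := k) (isCoh_point k x hx) (closed_support_point x hx) {x}
    (by simpa using CurvePoint.support_quot_subset x hx)
  rw [Finset.sum_singleton] at h
  let Q := ClSub.quotMod (CurvePoint.ptIdeal x hx)
  letI := CurveCohLib.stalkModuleK k Q x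
  obtain ⟨q₀, hq₀⟩ : ∃ q₀ : Q.presheaf.stalk x, ∀ q, ∃ a : X.presheaf.stalk x, q = a • q₀ :=
    ParShLib.exists_germ_smul (CurvePoint.ptIdeal x hx) x
  have hker : ∀ a : X.presheaf.stalk x, a • q₀ = 0 ↔ a ∈ IsLocalRing.maximalIdeal (X.presheaf.stalk x) := by
    refine fun a => ⟨fun h0 => ?_, fun ha => CurvePoint.smul_quot_eq_zero x hx ha q₀⟩
    by_contra ha
    have hu : IsUnit a := not_not.1 fun h => ha ((IsLocalRing.mem_maximalIdeal _).2 h)
    refine CurvePoint.not_subsingleton_stalk x hx (subsingleton_of_forall_eq 0 fun q => ?_)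
    obtain ⟨b, rfl⟩ := hq₀ q
    rw [(IsUnit.smul_eq_zero hu).1 h0, smul_zero]
  let L : X.residueField x →+ Q.presheaf.stalk x :=
    { toFun := fun c => (Scheme.residue_surjective X x c).choose • q₀
      map_zero' := (hker _).2 ((IsLocalRing.residue_eq_zero_iff _).1
        (Scheme.residue_surjective X x 0).choose_spec)
      map_add' := fun a b => by
        rw [← add_smul, ← sub_eq_zero, ← sub_smul]
        refine (hker _).2 ((IsLocalRing.residue_eq_zero_iff _).1 ?_)
        rw [map_sub, map_add]
        show X.residue x _ - (X.residue x _ + X.residue x _) = 0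
        rw [(Scheme.residue_surjective X x (a + b)).choose_spec, (Scheme.residue_surjective X x a).choose_spec,
          (Scheme.residue_surjective X x b).choose_spec, sub_self] }
  have hLres : ∀ a : X.presheaf.stalk x, L (X.residue x a) = a • q₀ := fun a => by
    show (Scheme.residue_surjective X x (X.residue x a)).choose • q₀ = a • q₀
    rw [← sub_eq_zero, ← sub_smul]
    refine (hker _).2 ((IsLocalRing.residue_eq_zero_iff _).1 ?_)
    rw [map_sub]
    show X.residue x _ - X.residue x _ = 0
    rw [(Scheme.residue_surjective X x (X.residue x a)).choose_spec, sub_self]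
  have hbij : Function.Bijective L := by
    refine ⟨(injective_iff_map_eq_zero L).2 fun c hc => ?_, fun q => ?_⟩
    · obtain ⟨a, rfl⟩ := Scheme.residue_surjective X x c
      rw [hLres, hker] at hc
      exact (IsLocalRing.residue_eq_zero_iff a).2 hc
    · obtain ⟨a, rfl⟩ := hq₀ q
      exact ⟨X.residue x a, hLres a⟩
  have hfr : Module.finrank k (X.residueField x) = Module.finrank k (Q.presheaf.stalk x) := by
    refine LinearEquiv.finrank_eq (LinearEquiv.ofBijective
      { toFun := L
        map_add' := L.map_add
        map_smul' := fun c r => by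
          obtain ⟨a, rfl⟩ := Scheme.residue_surjective X x r
          rw [Algebra.smul_def]
          show L (X.residue x (Curv2.stalkMap k X x c) * X.residue x a) = _
          rw [← map_mul, hLres, hLres, mul_smul]
          rfl } hbij)
  rw [hfr]
  exact h

include k in
/-- Twisting by a closed point adds at most its degree to the sections. -/
theorem h0_twist_point (x : X) (hx : IsClosed ({x} : Set X)) {L L' : X.Modules} (hL' : PicF.IsInvertible L')
    (e : L ≅ (DCoh.tensorBi.obj L').obj (CurvePoint.ptMod x hx)) :
    Module.finrank k (Coh.HH X L 0) ≤ Module.finrank k (Coh.HH X L' 0) ∧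
      Module.finrank k (Coh.HH X L' 0) ≤ Module.finrank k (Coh.HH X L 0) + Module.finrank k (X.residueField x) := by
  haveI := CurveCohLib.isNoetherian_of_proper (k := k) (X := X)
  have hL1 := InvEnd.isFinLocFreeOfRank_one hL'
  have hLf : FlatMod.IsFinLocFree L' := fun y => let ⟨W, hy, he⟩ := hL1 y; ⟨W, 1, hy, he⟩
  let T := DCoh.tensorBi.obj L'
  have hO : Coh.IsCoh (Coh.structureModule X) := QCoh.isCoh_structureModule'
  have hQ := isCoh_point k x hx
  have hT := CurveTensor.shortExact_tensor hLf _ _ _ (shortExact_point x hx)
  have hM₂ : Coh.IsCoh (T.obj (Coh.structureModule X)) := CurveTensor.isCoh_tensor hLf hO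
  have hM₃ : Coh.IsCoh (T.obj (ClSub.quotMod (CurvePoint.ptIdeal x hx))) := CurveTensor.isCoh_tensor hLf hQ
  have hrk : (Module.finrank k (Coh.HH X (T.obj (ClSub.quotMod (CurvePoint.ptIdeal x hx))) 0) : ℤ) =
      Module.finrank k (X.residueField x) := by
    rw [← CurveCohLib.euler_eq_finrank_zero (k := k) hM₃
      (fun y hy => closed_support_point x hx y (CurveTensor.support_tensor_subset hy)),
      CurveTensor.euler_tensor_torsion k hL1 hQ (closed_support_point x hx), euler_point k x hx, Nat.cast_one,
      one_mul]
  obtain ⟨h1, h2⟩ := finrank_h0_bounds k hT hM₂ hM₃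
  have r₁ : Module.finrank k (Coh.HH X (T.obj (CurvePoint.ptMod x hx)) 0) = Module.finrank k (Coh.HH X L 0) :=
    (finrank_congr k e 0).symm
  have r₂ : Module.finrank k (Coh.HH X (T.obj (Coh.structureModule X)) 0) = Module.finrank k (Coh.HH X L' 0) :=
    finrank_congr k (KFlatLib.tensorUnitIso L') 0
  exact ⟨r₁.symm.trans_le (h1.trans r₂.le),
    r₂.symm.trans_le (h2.trans (Nat.add_le_add r₁.le (Nat.cast_injective hrk).le))⟩

end Groth.Agent.CurveDiv
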